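import Groth.Agent.SubLib.Extend
import Groth.Agent.QCohLib.Push

/-!
# Extension along a well ordered affine cover, and consequences
-/

set_option autoImplicit false
set_option backward.isDefEq.respectTransparency false
set_option backward.defeqAttrib.useBackward true
set_option linter.style.haveILetI false

universe u v

open CategoryTheory CategoryTheory.Limits AlgebraicGeometry TopologicalSpace Opposite
open Groth.Agent.CohBase Groth.Agent.QCohLib

noncomputable section

namespace Groth.Agent.SubLib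

variable {X : Scheme.{u}} {M : X.Modules} [Coh.IsQCoh M]

/-- Extension along a well ordered affine cover. -/
theorem exists_good_wellOrder {L : Type v} [LinearOrder L] [WellFoundedLT L]
    (V : L → X.Opens) (hV : ∀ l, IsAffineOpen (V l)) (hcov : ⨆ l, V l = ⊤)
    (hW : ∀ l, IsCompact ((V l : Set X) ∩ ⋃ m ∈ Set.Iio l, (V m : Set X)))
    {N₀ : StalkSub M} {U : X.Opens} (hU : ∀ l, IsCompact ((V l : Set X) ∩ (U : Set X))) (h₀ : Good N₀ U) :
    ∃ N : StalkSub M, (∀ z ∈ U, N z = N₀ z) ∧ Good N ⊤ := by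
  classical
  let op' : Set L → X.Opens := fun D => U ⊔ ⨆ m ∈ D, V m
  have hmono : ∀ {D D' : Set L}, D ⊆ D' → op' D ≤ op' D' := fun h =>
    sup_le_sup le_rfl (biSup_mono fun m hm => h hm)
  have hmem : ∀ {D : Set L} {z : X}, z ∈ op' D → z ∈ U ∨ ∃ m ∈ D, z ∈ V m := by
    intro D z hz
    rcases hz with hz | hz
    · exact Or.inl hz
    · obtain ⟨m, hm⟩ := Opens.mem_iSup.mp hz
      obtain ⟨hmD, hzm⟩ := Opens.mem_iSup.mp hm
      exact Or.inr ⟨m, hmD, hzm⟩
  have hof : ∀ {D : Set L} {m : L}, m ∈ D → V m ≤ op' D := fun hm =>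
    le_sup_of_le_right (le_biSup V hm)
  let St := { p : Set L × StalkSub M // IsLowerSet p.1 ∧ Good p.2 (op' p.1) ∧ ∀ z ∈ U, p.2 z = N₀ z }
  let r : St → St → Prop := fun a b => a.1.1 ⊆ b.1.1 ∧ ∀ z ∈ op' a.1.1, a.1.2 z = b.1.2 z
  obtain ⟨m, hm⟩ : ∃ m : St, ∀ a, r m a → r a m := by
    refine exists_maximal_of_chains_bounded (fun c hc => ?_) fun {a b c} hab hbc =>
      ⟨hab.1.trans hbc.1, fun z hz => (hab.2 z hz).trans (hbc.2 z (hmono hab.1 hz))⟩
    rcases c.eq_empty_or_nonempty with rfl | ⟨a₀, ha₀⟩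
    · refine ⟨⟨(∅, N₀), isLowerSet_empty, fun x hx => ?_, fun _ _ => rfl⟩,
        fun a ha => absurd ha (Set.notMem_empty a)⟩
      obtain ⟨W, hW, hxW, hWU, hG⟩ := h₀ x ((hmem hx).resolve_right (by simp))
      exact ⟨W, hW, hxW, hWU.trans le_sup_left, hG⟩
    let N : StalkSub M := fun z => if h : ∃ a ∈ c, z ∈ op' a.1.1 then h.choose.1.2 z else ⊥
    have hN : ∀ a ∈ c, ∀ z ∈ op' a.1.1, N z = a.1.2 z := by
      intro a ha z hz
      have h : ∃ a ∈ c, z ∈ op' a.1.1 := ⟨a, ha, hz⟩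
      simp only [N, dif_pos h]
      by_cases he : h.choose = a
      · rw [he]
      rcases hc h.choose_spec.1 ha he with hle | hle
      · exact hle.2 z h.choose_spec.2
      · exact (hle.2 z hz).symm
    let D : Set L := ⋃ a ∈ c, a.1.1
    have hle : ∀ a ∈ c, a.1.1 ⊆ D := fun a ha => Set.subset_biUnion_of_mem (u := fun a : St => a.1.1) ha
    have hchart : ∀ z ∈ op' D, ∃ a ∈ c, z ∈ op' a.1.1 := fun z hz => by
      rcases hmem hz with hz | ⟨m, hm, hzm⟩
      · exact ⟨a₀, ha₀, le_sup_left (a := U) hz⟩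
      · obtain ⟨a, ha, hma⟩ := Set.mem_iUnion₂.mp hm
        exact ⟨a, ha, hof hma hzm⟩
    refine ⟨⟨(D, N), isLowerSet_iUnion₂ fun a _ => a.2.1, fun x hx => ?_, fun z hz => ?_⟩,
      fun a ha => ⟨hle a ha, fun z hz => (hN a ha z hz).symm⟩⟩
    · obtain ⟨a, ha, hxa⟩ := hchart x hx
      obtain ⟨W, hW, hxW, hWa, hG⟩ := a.2.2.1 x hxa
      exact ⟨W, hW, hxW, hWa.trans (hmono (hle a ha)), hG.congr fun y hy => hN a ha y (hWa hy)⟩
    · exact (hN a₀ ha₀ z (le_sup_left (a := U) hz)).trans (a₀.2.2.2 z hz)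
  refine ⟨m.1.2, m.2.2.2, ?_⟩
  suffices hD : ∀ l, l ∈ m.1.1 by
    intro x _
    have hx : x ∈ op' m.1.1 := by
      obtain ⟨l, hl⟩ := Opens.mem_iSup.mp (hcov.ge (Set.mem_univ x) : x ∈ ⨆ l, V l)
      exact hof (hD l) hl
    obtain ⟨W, hW, hxW, -, hG⟩ := m.2.2.1 x hx
    exact ⟨W, hW, hxW, le_top, hG⟩
  by_contra hne
  push Not at hne
  obtain ⟨l, hl, hmin⟩ := wellFounded_lt.has_min {l | l ∉ m.1.1} hne
  have hD : m.1.1 = Set.Iio l := Set.ext fun k => by
    refine ⟨fun hk => ?_, fun hk => by_contra fun h => hmin k h hk⟩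
    by_contra h
    exact hl (m.2.1 (not_lt.1 h) hk)
  have hc : IsCompact ((op' m.1.1 ⊓ V l : X.Opens) : Set X) := by
    have : ((op' m.1.1 ⊓ V l : X.Opens) : Set X) =
        (V l : Set X) ∩ (U : Set X) ∪ (V l : Set X) ∩ ⋃ m ∈ Set.Iio l, (V m : Set X) := by
      rw [hD]
      simp only [op', Opens.coe_inf, Opens.coe_sup, Opens.coe_iSup]
      rw [Set.inter_comm, Set.inter_union_distrib_left]
    rw [this]
    exact (hU l).union (hW l)
  obtain ⟨N', hN', hG⟩ := exists_step m.2.2.1 (hV l) hc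
  have hlow : IsLowerSet (insert l m.1.1) := by
    intro a b hba ha
    rcases ha with rfl | ha
    · rcases hba.lt_or_eq with h | h
      · exact Set.mem_insert_of_mem _ (hD ▸ h)
      · exact h ▸ Set.mem_insert _ _
    · exact Set.mem_insert_of_mem _ (m.2.1 hba ha)
  let b : St := ⟨(insert l m.1.1, N'), hlow, fun z hz => by
    rcases hmem hz with hz | ⟨k, hk, hzk⟩
    · obtain ⟨W, hW, hzW, hWV, hGW⟩ := m.2.2.1 z (le_sup_left (a := U) hz)
      exact ⟨W, hW, hzW, hWV.trans (hmono (Set.subset_insert _ _)), hGW.congr fun y hy => hN' y (hWV hy)⟩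
    · rcases hk with rfl | hk
      · exact ⟨V k, hV k, hzk, hof (Set.mem_insert _ _), hG⟩
      · obtain ⟨W, hW, hzW, hWV, hGW⟩ := m.2.2.1 z (hof hk hzk)
        exact ⟨W, hW, hzW, hWV.trans (hmono (Set.subset_insert _ _)),
          hGW.congr fun y hy => hN' y (hWV hy)⟩,
    fun z hz => (hN' z (le_sup_left (a := U) hz)).trans (m.2.2.2 z hz)⟩
  exact hl ((hm b ⟨Set.subset_insert _ _, fun z hz => (hN' z hz).symm⟩).1 (Set.mem_insert _ _))

/-- Extension on a quasi-compact quasi-separated scheme. -/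
theorem exists_good_qcqs [CompactSpace X] [QuasiSeparatedSpace X] {N₀ : StalkSub M} {U : X.Opens}
    (hU : IsCompact (U : Set X)) (h₀ : Good N₀ U) :
    ∃ N : StalkSub M, (∀ z ∈ U, N z = N₀ z) ∧ Good N ⊤ := by
  classical
  obtain ⟨s, hs, e⟩ := (isCompact_and_isOpen_iff_finite_and_eq_biUnion_affineOpens (U := (Set.univ : Set X))).1
    ⟨isCompact_univ, isOpen_univ⟩
  haveI := hs.fintype
  let eq := Fintype.equivFin s
  let V : Fin (Fintype.card s) → X.Opens := fun k => (eq.symm k).1.1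
  refine exists_good_wellOrder V (fun k => (eq.symm k).1.2) (eq_top_iff.mpr fun x _ => ?_) (fun k => ?_)
    (fun k => QuasiSeparatedSpace.inter_isCompact _ _ (V k).isOpen (eq.symm k).1.2.isCompact U.isOpen hU) h₀
  · obtain ⟨a, ha, hxa⟩ := Set.mem_iUnion₂.mp (e.le (Set.mem_univ x))
    refine Opens.mem_iSup.mpr ⟨eq ⟨a, ha⟩, ?_⟩
    show x ∈ (eq.symm (eq ⟨a, ha⟩)).1.1
    rw [Equiv.symm_apply_apply]
    exact hxa
  · refine QuasiSeparatedSpace.inter_isCompact _ _ (V k).isOpen (eq.symm k).1.2.isCompact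
      (isOpen_biUnion fun j _ => (V j).isOpen) ?_
    exact (Set.finite_Iio k).isCompact_biUnion fun j _ => (eq.symm j).1.2.isCompact

/-- The subsheaf spanned by one section, on its domain. -/
theorem exists_good_section {U : X.Opens} (hU : IsAffineOpen U) (s : Γ(M, U)) :
    ∃ N₀ : StalkSub M, Good N₀ U ∧ ∀ (z : X) (hz : z ∈ U), M.presheaf.germ U z hz s ∈ N₀ z := by
  classical
  refine ⟨fun z => if hz : z ∈ U then
    Submodule.span (X.presheaf.stalk z) {M.presheaf.germ U z hz s} else ⊥,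
    fun x hx => ⟨U, hU, hx, le_rfl, {s}, fun y hy => ?_⟩, fun z hz => ?_⟩
  · dsimp only; rw [dif_pos hy, Finset.coe_singleton, Set.image_singleton]
  · dsimp only; rw [dif_pos hz]
    exact Submodule.mem_span_singleton_self _

/-- The conclusion of the extension theorem from a global family. -/
theorem exists_ext_of_good {U : X.Opens} {G : (U : Scheme.{u}).Modules} (i : G ⟶ M.restrict U.ι) [Mono i]
    {N : StalkSub M} (hN : ∀ z ∈ U, N z = base i z) (hgood : Good N ⊤) :
    ∃ (G' : X.Modules) (i' : G' ⟶ M) (e : G'.restrict U.ι ≅ G), Mono i' ∧ Coh.IsQCoh G' ∧ CohB1.IsFT G' ∧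
      e.hom ≫ i = (Scheme.Modules.restrictFunctor U.ι).map i' := by
  have hG' : ∀ x : X, ∃ W : X.Opens, IsAffineOpen W ∧ x ∈ W ∧ GenOn N W := fun x => by
    obtain ⟨W, hW, hx, -, h⟩ := hgood x trivial
    exact ⟨W, hW, hx, h⟩
  haveI := isIso_toSub i hN
  exact ⟨subMod N, subι N, (asIso (toSub i hN)).symm, inferInstance, isQCoh_subMod N hG',
    isFT_subMod N hG', (IsIso.inv_comp_eq _).2 (toSub_comp i hN).symm⟩

/-- The conclusion for a section. -/
theorem exists_sub_through {U : X.Opens} (s : Γ(M, U)) {N : StalkSub M} (hgood : Good N ⊤)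
    (hs : ∀ (z : X) (hz : z ∈ U), M.presheaf.germ U z hz s ∈ N z) :
    ∃ (G' : X.Modules) (i' : G' ⟶ M), Mono i' ∧ Coh.IsQCoh G' ∧ CohB1.IsFT G' ∧
      ∃ g : Γ(G', U), i'.app U g = s := by
  have hG' : ∀ x : X, ∃ W : X.Opens, IsAffineOpen W ∧ x ∈ W ∧ GenOn N W := fun x => by
    obtain ⟨W, hW, hx, -, h⟩ := hgood x trivial
    exact ⟨W, hW, hx, h⟩
  exact ⟨subMod N, subι N, inferInstance, isQCoh_subMod N hG', isFT_subMod N hG',
    (⟨s, hs⟩ : sec N U), rfl⟩

/-- A module on an open with quasi-compact inclusion is a quasi-coherent submodule of a restriction. -/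
theorem isQCoh_push_open (U : X.Opens) [QuasiCompact U.ι] (G : (U : Scheme.{u}).Modules) [Coh.IsQCoh G] :
    Coh.IsQCoh ((Scheme.Modules.pushforward U.ι).obj G) := isQCoh_pushforward G U.ι

end Groth.Agent.SubLib

namespace Groth.Agent.SubLib

variable {X : Scheme.{u}}

theorem isCompact_inter_of_quasiCompact (U : X.Opens) [QuasiCompact U.ι] {V : X.Opens}
    (hV : IsCompact (V : Set X)) : IsCompact ((V : Set X) ∩ (U : Set X)) := by
  have h := (U.ι.isCompact_preimage hV).image U.ι.continuous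
  rw [Scheme.Hom.coe_preimage, Set.image_preimage_eq_inter_range] at h
  rwa [Scheme.Opens.range_ι] at h

theorem isCompact_inter_of_noetherianNhds
    (hX : ∀ x : X, ∃ U : X.Opens, x ∈ U ∧ NoetherianSpace (U : Set X)) {V : X.Opens}
    (hV : IsCompact (V : Set X)) (U : X.Opens) : IsCompact ((V : Set X) ∩ (U : Set X)) := by
  choose W hxW hW using hX
  obtain ⟨t, ht⟩ := hV.elim_finite_subcover (fun x => (W x : Set X)) (fun x => (W x).isOpen)
    fun x _ => Set.mem_iUnion.mpr ⟨x, hxW x⟩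
  have e : (V : Set X) ∩ (U : Set X) = ⋃ x ∈ t, ((V : Set X) ∩ (U : Set X) ∩ (W x : Set X)) := by
    rw [← Set.inter_iUnion₂]
    exact (Set.inter_eq_left.2 fun y hy => ht hy.1).symm
  rw [e]
  refine t.finite_toSet.isCompact_biUnion fun x _ => ?_
  have hsub : (V : Set X) ∩ (U : Set X) ∩ (W x : Set X) ⊆
      Set.range (Subtype.val : ↥(W x : Set X) → X) := by
    rw [Subtype.range_val]
    exact Set.inter_subset_right
  rw [← Set.image_preimage_eq_of_subset hsub]
  exact ((hW x).isCompact _).image continuous_subtype_val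

theorem quasiCompact_ι_of_isCompact_inter (U : X.Opens)
    (h : ∀ V : X.Opens, IsCompact (V : Set X) → IsCompact ((V : Set X) ∩ (U : Set X))) :
    QuasiCompact U.ι := by
  refine (quasiCompact_iff_isSpectralMap (f := U.ι)).2 ⟨U.ι.continuous, fun {s} hs hs' => ?_⟩
  rw [U.ι.isOpenEmbedding.isInducing.isCompact_iff, Set.image_preimage_eq_inter_range,
    Scheme.Opens.range_ι]
  exact h ⟨s, hs⟩ hs'

/-- An isomorphism of a module on an open with the restriction of its direct image. -/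
def pushOpenIso (U : X.Opens) (G : (U : Scheme.{u}).Modules) :
    ((Scheme.Modules.pushforward U.ι).obj G).restrict U.ι ≅ G :=
  (asIso (Scheme.Modules.restrictAdjunction U.ι).counit).app G

end Groth.Agent.SubLib
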