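import Groth.Agent.SubLib.Basic
import Groth.Agent.PullbackMod.Hom
import Mathlib.Order.Zorn
import Mathlib.Topology.NoetherianSpace

/-!
# Extension of quasi-coherent subsheaves of finite type
-/

set_option autoImplicit false
set_option backward.isDefEq.respectTransparency false
set_option backward.defeqAttrib.useBackward true
set_option linter.style.haveILetI false

universe u

open CategoryTheory CategoryTheory.Limits AlgebraicGeometry TopologicalSpace Opposite
open Groth.Agent.CohBase Groth.Agent.QCohLib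

noncomputable section

namespace Groth.Agent.SubLib

variable {X : Scheme.{u}} {M : X.Modules}

/-- `N` is locally finitely generated over `V`. -/
def Good (N : StalkSub M) (V : X.Opens) : Prop :=
  ∀ x ∈ V, ∃ W : X.Opens, IsAffineOpen W ∧ x ∈ W ∧ W ≤ V ∧ GenOn N W

variable [Coh.IsQCoh M]

/-- Extension to one more affine open. -/
theorem exists_step {N : StalkSub M} {V : X.Opens} (hV : Good N V) {W₀ : X.Opens} (hW₀ : IsAffineOpen W₀)
    (hc : IsCompact ((V ⊓ W₀ : X.Opens) : Set X)) :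
    ∃ N' : StalkSub M, (∀ z ∈ V, N' z = N z) ∧ GenOn N' W₀ := by
  classical
  have hloc : ∀ x : ↥(V ⊓ W₀), ∃ f : Γ(X, W₀), x.1 ∈ X.basicOpen f ∧ X.basicOpen f ≤ V ∧
      GenOn N (X.basicOpen f) := by
    rintro ⟨x, hxV, hxW₀⟩
    obtain ⟨W, hW, hxW, hWV, hG⟩ := hV x hxV
    obtain ⟨f, hf, hxf⟩ := hW₀.exists_basicOpen_le ⟨x, hxW⟩ hxW₀
    exact ⟨f, hxf, hf.trans hWV, hG.mono hf⟩
  choose f hxf hfV hG using hloc
  obtain ⟨T, hT⟩ := hc.elim_finite_subcover (fun x => (X.basicOpen (f x) : Set X))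
    (fun x => (X.basicOpen (f x)).isOpen) fun x hx => Set.mem_iUnion.mpr ⟨⟨x, hx⟩, hxf _⟩
  choose S hS using hG
  have hlift : ∀ (i) (t : Γ(M, X.basicOpen (f i))), ∃ s : Γ(M, W₀), ∀ (z : X) (hz : z ∈ W₀)
      (hzf : z ∈ X.basicOpen (f i)), ∃ v : (X.presheaf.stalk z)ˣ,
        M.presheaf.germ W₀ z hz s = v.1 • M.presheaf.germ _ z hzf t := by
    intro i t
    obtain ⟨n, s, hs⟩ := (locAt M hW₀).extend (f i) t
    refine ⟨s, fun z hz hzf => ⟨(((X.mem_basicOpen _ z hz).mp hzf).pow n).unit, ?_⟩⟩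
    rw [IsUnit.unit_spec, ← M.presheaf.germ_res_apply (homOfLE (X.basicOpen_le (f i))) z hzf s, hs,
      sc_apply, germ_smul', X.presheaf.germ_res_apply, map_pow]
  choose L hL using hlift
  have hgenk : ∀ (k) (z : X) (hz : z ∈ W₀) (hzf : z ∈ X.basicOpen (f k)), N z =
      Submodule.span (X.presheaf.stalk z)
        (M.presheaf.germ W₀ z hz '' (((S k).image (L k) : Finset _) : Set Γ(M, W₀))) := by
    intro k z hz hzf
    rw [hS k z hzf]
    refine le_antisymm (Submodule.span_le.2 ?_) (Submodule.span_le.2 ?_)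
    · rintro _ ⟨t, ht, rfl⟩
      obtain ⟨v, hv⟩ := hL k t z hz hzf
      refine (Submodule.smul_mem_iff_of_isUnit _ v.isUnit).1 (hv ▸ Submodule.subset_span ?_)
      exact Set.mem_image_of_mem _ (Finset.mem_image_of_mem _ ht)
    · rintro _ ⟨s, hs, rfl⟩
      obtain ⟨t, ht, rfl⟩ := Finset.mem_image.1 hs
      obtain ⟨v, hv⟩ := hL k t z hz hzf
      rw [hv]
      exact Submodule.smul_mem _ _ (Submodule.subset_span (Set.mem_image_of_mem _ ht))
  have hnum : ∀ (i) (t : Γ(M, X.basicOpen (f i))), t ∈ S i → ∃ m : ℕ,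
      ∀ (z : X) (hzV : z ∈ V) (hz : z ∈ W₀), M.presheaf.germ W₀ z hz (f i ^ m • L i t) ∈ N z := by
    intro i t ht
    have hk : ∀ k, ∃ m : ℕ, ∀ (z : X) (hz : z ∈ W₀), z ∈ X.basicOpen (f k) →
        M.presheaf.germ W₀ z hz (f i ^ m • L i t) ∈ N z := by
      intro k
      obtain ⟨m, hm⟩ := pow_smul_mem hW₀ (((S k).image (L k) : Finset _) : Set Γ(M, W₀)) (f i * f k)
        (L i t) fun z hz hzf => by
        rw [X.basicOpen_mul] at hzf
        rw [← hgenk k z hz hzf.2, hgenk i z hz hzf.1]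
        exact Submodule.subset_span (Set.mem_image_of_mem _ (Finset.mem_image_of_mem _ ht))
      refine ⟨m, fun z hz hzf => ?_⟩
      rw [hgenk k z hz hzf]
      refine (germ_mem_span_iff hW₀ _ z hz _).2 ⟨f k ^ m, ?_, ?_⟩
      · exact (X.mem_basicOpen _ z hz).2 (by rw [map_pow]; exact ((X.mem_basicOpen _ z hz).mp hzf).pow m)
      · rw [smul_smul, ← mul_pow, mul_comm (f k)]
        exact hm
    choose m hm using hk
    refine ⟨T.sup m, fun z hzV hz => ?_⟩
    obtain ⟨k, hk, hzk⟩ := Set.mem_iUnion₂.mp (hT ⟨hzV, hz⟩)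
    obtain ⟨d, hd⟩ := Nat.exists_eq_add_of_le (Finset.le_sup (f := m) hk)
    rw [hd, add_comm, pow_add, mul_smul, germ_smul']
    exact (N z).smul_mem _ (hm k z hz hzk)
  choose m hm using hnum
  let P : Finset Γ(M, W₀) :=
    T.biUnion fun i => (S i).attach.image fun t => f i ^ m i t.1 t.2 • L i t.1
  refine ⟨fun z => if z ∈ V then N z else if hz : z ∈ W₀ then
    Submodule.span (X.presheaf.stalk z) (M.presheaf.germ W₀ z hz '' (P : Set Γ(M, W₀))) else ⊥,
    fun z hz => if_pos hz, P, fun z hz => ?_⟩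
  dsimp only
  by_cases hzV : z ∈ V
  · rw [if_pos hzV]
    refine le_antisymm ?_ (Submodule.span_le.2 ?_)
    · obtain ⟨i, hi, hzi⟩ := Set.mem_iUnion₂.mp (hT ⟨hzV, hz⟩)
      rw [hgenk i z hz hzi]
      refine Submodule.span_le.2 ?_
      rintro _ ⟨s, hs, rfl⟩
      obtain ⟨t, ht, rfl⟩ := Finset.mem_image.1 hs
      have : M.presheaf.germ W₀ z hz (f i ^ m i t ht • L i t) ∈ Submodule.span (X.presheaf.stalk z)
          (M.presheaf.germ W₀ z hz '' (P : Set Γ(M, W₀))) :=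
        Submodule.subset_span (Set.mem_image_of_mem _ (Finset.mem_biUnion.2
          ⟨i, hi, Finset.mem_image.2 ⟨⟨t, ht⟩, Finset.mem_attach _ _, rfl⟩⟩))
      rw [germ_smul', map_pow] at this
      exact (Submodule.smul_mem_iff_of_isUnit _ (((X.mem_basicOpen _ z hz).mp hzi).pow _)).1 this
    · rintro _ ⟨s, hs, rfl⟩
      obtain ⟨i, hi, hs⟩ := Finset.mem_biUnion.1 hs
      obtain ⟨t, -, rfl⟩ := Finset.mem_image.1 hs
      exact hm i t.1 t.2 z hzV hz
  · rw [if_neg hzV, dif_pos hz]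

/-- On a locally Noetherian space a locally finitely generated subsheaf over an open extends. -/
theorem exists_good_top (hX : ∀ x : X, ∃ U : X.Opens, x ∈ U ∧ NoetherianSpace (U : Set X))
    {N₀ : StalkSub M} {U : X.Opens} (h₀ : Good N₀ U) :
    ∃ N : StalkSub M, (∀ z ∈ U, N z = N₀ z) ∧ Good N ⊤ := by
  classical
  let St := { p : X.Opens × StalkSub M // U ≤ p.1 ∧ Good p.2 p.1 ∧ ∀ z ∈ U, p.2 z = N₀ z }
  let r : St → St → Prop := fun a b => a.1.1 ≤ b.1.1 ∧ ∀ z ∈ a.1.1, a.1.2 z = b.1.2 z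
  obtain ⟨m, hm⟩ : ∃ m : St, ∀ a, r m a → r a m := by
    refine exists_maximal_of_chains_bounded (fun c hc => ?_) fun {a b c} hab hbc =>
      ⟨hab.1.trans hbc.1, fun z hz => (hab.2 z hz).trans (hbc.2 z (hab.1 hz))⟩
    rcases c.eq_empty_or_nonempty with rfl | ⟨a₀, ha₀⟩
    · exact ⟨⟨(U, N₀), le_rfl, h₀, fun _ _ => rfl⟩, fun a ha => absurd ha (Set.notMem_empty a)⟩
    let N : StalkSub M := fun z => if h : ∃ a ∈ c, z ∈ a.1.1 then h.choose.1.2 z else ⊥
    have hN : ∀ a ∈ c, ∀ z ∈ a.1.1, N z = a.1.2 z := by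
      intro a ha z hz
      have h : ∃ a ∈ c, z ∈ a.1.1 := ⟨a, ha, hz⟩
      simp only [N, dif_pos h]
      by_cases he : h.choose = a
      · rw [he]
      rcases hc h.choose_spec.1 ha he with hle | hle
      · exact hle.2 z h.choose_spec.2
      · exact (hle.2 z hz).symm
    let V : X.Opens := ⨆ a : c, a.1.1.1
    have hle : ∀ a ∈ c, a.1.1 ≤ V := fun a ha => le_iSup (fun a : c => a.1.1.1) ⟨a, ha⟩
    refine ⟨⟨(V, N), a₀.2.1.trans (hle a₀ ha₀), fun x hx => ?_, fun z hz => ?_⟩,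
      fun a ha => ⟨hle a ha, fun z hz => (hN a ha z hz).symm⟩⟩
    · obtain ⟨⟨a, ha⟩, hxa⟩ := Opens.mem_iSup.mp hx
      obtain ⟨W, hW, hxW, hWa, hG⟩ := a.2.2.1 x hxa
      exact ⟨W, hW, hxW, hWa.trans (hle a ha), hG.congr fun y hy => hN a ha y (hWa hy)⟩
    · exact (hN a₀ ha₀ z (a₀.2.1 hz)).trans (a₀.2.2.2 z hz)
  refine ⟨m.1.2, m.2.2.2, fun x _ => ?_⟩
  suffices hx : x ∈ m.1.1 by
    obtain ⟨W, hW, hxW, -, hG⟩ := m.2.2.1 x hx
    exact ⟨W, hW, hxW, le_top, hG⟩
  by_contra hxV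
  obtain ⟨U', hxU', hnoeth⟩ := hX x
  obtain ⟨_, ⟨W₀, hW₀, rfl⟩, hxW₀, hW₀U⟩ :=
    X.isBasis_affineOpens.exists_subset_of_mem_open hxU' U'.isOpen
  have hc : IsCompact ((m.1.1 ⊓ W₀ : X.Opens) : Set X) := by
    have hsub : ((m.1.1 ⊓ W₀ : X.Opens) : Set X) ⊆ Set.range (Subtype.val : ↥(U' : Set X) → X) := by
      rw [Subtype.range_val]
      exact fun z hz => hW₀U hz.2
    rw [← Set.image_preimage_eq_of_subset hsub]
    exact (hnoeth.isCompact _).image continuous_subtype_val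
  obtain ⟨N', hN', hG⟩ := exists_step m.2.2.1 hW₀ hc
  let b : St := ⟨(m.1.1 ⊔ W₀, N'), m.2.1.trans le_sup_left, fun z hz => by
    rcases hz with hz | hz
    · obtain ⟨W, hW, hzW, hWV, hGW⟩ := m.2.2.1 z hz
      exact ⟨W, hW, hzW, hWV.trans le_sup_left, hGW.congr fun y hy => hN' y (hWV hy)⟩
    · exact ⟨W₀, hW₀, hz, le_sup_right, hG⟩,
    fun z hz => (hN' z (m.2.1 hz)).trans (m.2.2.2 z hz)⟩
  exact hxV ((hm b ⟨le_sup_left, fun z hz => (hN' z hz).symm⟩).1 (Or.inr hxW₀))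

section Base

variable {U : X.Opens} {G : (U : Scheme.{u}).Modules} (i : G ⟶ M.restrict U.ι)

/-- The image of a section of `G`. -/
def img (W : (U : Scheme.{u}).Opens) (s : Γ(G, W)) : Γ(M, U.ι ''ᵁ W) :=
  (M.restrictAppIso U.ι W).hom (i.app W s)

omit [Coh.IsQCoh M] in
theorem img_add (W : (U : Scheme.{u}).Opens) (s t : Γ(G, W)) :
    img i W (s + t) = img i W s + img i W t := by
  simp only [img, map_add]

omit [Coh.IsQCoh M] in
theorem img_res {W W' : (U : Scheme.{u}).Opens} (h : W' ≤ W) (s : Γ(G, W)) :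
    img i W' (G.presheaf.map (homOfLE h).op s) =
      M.presheaf.map (homOfLE (U.ι.image_mono h)).op (img i W s) := by
  show i.app W' (G.presheaf.map (homOfLE h).op s) = _
  exact ConcreteCategory.congr_hom (i.mapPresheaf.naturality (homOfLE h).op) s

omit [Coh.IsQCoh M] in
theorem img_smul (W : (U : Scheme.{u}).Opens) (r : Γ((U : Scheme.{u}), W)) (s : Γ(G, W)) :
    img i W (r • s) = (U.ι.appIso W).inv r • img i W s := by
  show (M.restrictAppIso U.ι W).hom (i.app W (r • s)) = _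
  rw [Scheme.Modules.Hom.app_smul]
  exact Scheme.Modules.smul_restrictAppIso_hom_apply U.ι M W r _

omit [Coh.IsQCoh M] in
theorem mem_image_ι {z : X} {W : (U : Scheme.{u}).Opens} (hzU : z ∈ U) (h : (⟨z, hzU⟩ : U) ∈ W) :
    z ∈ U.ι ''ᵁ W := ⟨⟨z, hzU⟩, h, rfl⟩

/-- The germs of sections of `G`. -/
def baseAt (z : X) (hzU : z ∈ U) : Submodule (X.presheaf.stalk z) (M.presheaf.stalk z) where
  carrier := {g | ∃ (W : (U : Scheme.{u}).Opens) (hz : (⟨z, hzU⟩ : U) ∈ W) (s : Γ(G, W)),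
    g = M.presheaf.germ _ z (mem_image_ι hzU hz) (img i W s)}
  add_mem' := by
    rintro _ _ ⟨W, hz, s, rfl⟩ ⟨W', hz', s', rfl⟩
    refine ⟨W ⊓ W', ⟨hz, hz'⟩, G.presheaf.map (homOfLE inf_le_left).op s +
      G.presheaf.map (homOfLE inf_le_right).op s', ?_⟩
    rw [img_add, map_add, img_res, img_res, M.presheaf.germ_res_apply, M.presheaf.germ_res_apply]
  zero_mem' := ⟨⊤, trivial, 0, by simp [img]⟩
  smul_mem' := by
    rintro a _ ⟨W, hz, s, rfl⟩
    obtain ⟨V, hzV, a, rfl⟩ := TopCat.Presheaf.exists_germ_eq X.presheaf a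
    let W₃ : (U : Scheme.{u}).Opens := W ⊓ U.ι ⁻¹ᵁ V
    have hle : U.ι ''ᵁ W₃ ≤ V := (U.ι.image_mono inf_le_right).trans (U.ι.image_preimage_le V)
    refine ⟨W₃, ⟨hz, hzV⟩, (U.ι.appIso W₃).hom (X.presheaf.map (homOfLE hle).op a) •
      G.presheaf.map (homOfLE inf_le_left).op s, ?_⟩
    rw [img_smul, Iso.hom_inv_id_apply, img_res, germ_smul', X.presheaf.germ_res_apply,
      M.presheaf.germ_res_apply]

open Classical in
/-- The stalks of the image of `G`, extended by zero. -/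
def base : StalkSub M := fun z => if h : z ∈ U then baseAt i z h else ⊥

omit [Coh.IsQCoh M] in
theorem base_eq {z : X} (hz : z ∈ U) : base i z = baseAt i z hz := dif_pos hz

theorem good_base [Coh.IsQCoh G] (hG : CohB1.IsFT G) : Good (base i) U := by
  classical
  intro x hx
  obtain ⟨_, ⟨W, hW, rfl⟩, hxW, -⟩ :=
    (U : Scheme.{u}).isBasis_affineOpens.exists_subset_of_mem_open
      (Set.mem_univ (⟨x, hx⟩ : U)) isOpen_univ
  haveI := QCohLib.finite_sections G hG hW
  obtain ⟨S, hS⟩ := Module.Finite.fg_top (R := Γ((U : Scheme.{u}), W)) (M := Γ(G, W))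
  refine ⟨U.ι ''ᵁ W, hW.image_of_isOpenImmersion U.ι, mem_image_ι hx hxW, ?_, S.image (img i W), ?_⟩
  · exact (U.ι.image_mono le_top).trans U.ι_image_top.le
  intro y hy
  obtain ⟨⟨z, hzU⟩, hzW, hy'⟩ := hy
  obtain rfl : z = y := hy'
  rw [base_eq i hzU]
  refine le_antisymm ?_ (Submodule.span_le.2 ?_)
  · rintro _ ⟨W', hz', s, rfl⟩
    let p : (U : Scheme.{u}) := ⟨z, hzU⟩
    letI := Module.compHom (G.presheaf.stalk p) ((U : Scheme.{u}).presheaf.germ W p hzW).hom
    haveI := FlatLocus.isLocalizedModule_germL G hW p hzW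
    obtain ⟨⟨g, a⟩, hga⟩ := IsLocalizedModule.surj (hW.primeIdealOf ⟨p, hzW⟩).asIdeal.primeCompl
      (FlatLocus.germL G W p hzW) (G.presheaf.germ W' p hz' s)
    have hap : p ∈ (U : Scheme.{u}).basicOpen a.1 := by
      have h := SetLike.ext_iff.mp (hW.fromSpec_preimage_basicOpen a.1) (hW.primeIdealOf ⟨p, hzW⟩)
      rw [Scheme.Hom.mem_preimage, hW.fromSpec_primeIdealOf] at h
      exact h.2 a.2
    let W₁ : (U : Scheme.{u}).Opens := W ⊓ W'
    have h1 : (G.presheaf.germ W₁ p ⟨hzW, hz'⟩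
        ((show Γ((U : Scheme.{u}), W₁) from
          (U : Scheme.{u}).presheaf.map (homOfLE (inf_le_left : W₁ ≤ W)).op a.1) •
          (show Γ(G, W₁) from G.presheaf.map (homOfLE (inf_le_right : W₁ ≤ W')).op s))) =
        G.presheaf.germ W₁ p ⟨hzW, hz'⟩ (G.presheaf.map (homOfLE (inf_le_left : W₁ ≤ W)).op g) := by
      rw [germ_smul', TopCat.Presheaf.germ_res_apply, G.presheaf.germ_res_apply, G.presheaf.germ_res_apply]
      exact hga
    obtain ⟨W₂, hp₂, j, j', hres⟩ := TopCat.Presheaf.germ_eq G.presheaf p _ _ _ _ h1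
    have h2 := congrArg (fun t => M.presheaf.germ _ z (mem_image_ι hzU hp₂) (img i W₂ t)) hres
    simp only [show j = homOfLE j.le from Subsingleton.elim _ _,
      show j' = homOfLE j'.le from Subsingleton.elim _ _, img_res, M.presheaf.germ_res_apply,
      img_smul, germ_smul'] at h2
    have hmem : M.presheaf.germ (U.ι ''ᵁ W) z (mem_image_ι hzU hzW) (img i W g) ∈
        Submodule.span (X.presheaf.stalk z)
          (M.presheaf.germ (U.ι ''ᵁ W) z (mem_image_ι hzU hzW) '' ↑(S.image (img i W))) := by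
      have hg : g ∈ Submodule.span Γ((U : Scheme.{u}), W) (S : Set Γ(G, W)) := hS ▸ Submodule.mem_top
      refine germ_span_le (Q := Submodule.span (X.presheaf.stalk z)
          (M.presheaf.germ (U.ι ''ᵁ W) z (mem_image_ι hzU hzW) '' ↑(S.image (img i W))))
        (S := ↑(S.image (img i W))) (mem_image_ι hzU hzW)
        (fun t ht => Submodule.subset_span (Set.mem_image_of_mem _ ht)) le_rfl ?_
      refine Submodule.span_induction (p := fun g _ => img i W g ∈
        Submodule.span Γ(X, U.ι ''ᵁ W) (↑(S.image (img i W)) : Set _)) ?_ ?_ ?_ ?_ hg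
      · exact fun t ht => Submodule.subset_span (Finset.mem_image_of_mem _ ht)
      · simp [img]
      · intro a b _ _ ha hb
        rw [img_add]
        exact Submodule.add_mem _ ha hb
      · intro a t _ ht
        rw [img_smul]
        exact Submodule.smul_mem _ _ ht
    have e1 := (congrArg (M.presheaf.germ (U.ι ''ᵁ W₁) z (mem_image_ι (W := W₁) hzU ⟨hzW, hz'⟩))
      (img_res i (inf_le_left : W₁ ≤ W) g)).trans
        (M.presheaf.germ_res_apply _ z (mem_image_ι (W := W₁) hzU ⟨hzW, hz'⟩) _)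
    have e2 := (congrArg (M.presheaf.germ (U.ι ''ᵁ W₁) z (mem_image_ι (W := W₁) hzU ⟨hzW, hz'⟩))
      (img_res i (inf_le_right : W₁ ≤ W') s)).trans
        (M.presheaf.germ_res_apply _ z (mem_image_ι (W := W₁) hzU ⟨hzW, hz'⟩) _)
    have h3 := (congrArg₂ (· • ·) rfl e2.symm).trans (h2.trans e1)
    refine (Submodule.smul_mem_iff_of_isUnit _ ?_).1 (h3.symm ▸ hmem)
    refine (X.mem_basicOpen _ z _).mp ?_
    rw [← Scheme.image_basicOpen U.ι]
    refine mem_image_ι hzU ?_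
    rw [Scheme.basicOpen_res]
    exact ⟨⟨hzW, hz'⟩, hap⟩
  · rintro _ ⟨t, ht, rfl⟩
    obtain ⟨s, -, rfl⟩ := Finset.mem_image.1 ht
    exact ⟨W, hzW, s, rfl⟩

omit [Coh.IsQCoh M] in
theorem img_mem_sec {N : StalkSub M} (hN : ∀ z ∈ U, N z = base i z) (W : (U : Scheme.{u}).Opens)
    (s : Γ(G, W)) : img i W s ∈ sec N (U.ι ''ᵁ W) := by
  intro z hz
  obtain ⟨⟨z', hzU⟩, hzW, hz'⟩ := hz
  obtain rfl : z' = z := hz'
  rw [hN z' hzU, base_eq i hzU]
  exact ⟨W, hzW, s, rfl⟩

/-- `G` maps to the restriction of the subsheaf. -/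
def toSub {N : StalkSub M} (hN : ∀ z ∈ U, N z = base i z) : G ⟶ (subMod N).restrict U.ι where
  val := PresheafOfModules.homMk
    { app := fun W => AddCommGrpCat.ofHom
        (show Γ(G, W.unop) →+ sec N (U.ι ''ᵁ W.unop) from
        { toFun := fun s => ⟨img i W.unop s, img_mem_sec i hN W.unop s⟩
          map_zero' := Subtype.ext (by simp [img])
          map_add' := fun a b => Subtype.ext (img_add i W.unop a b) })
      naturality := fun W W' k => by
        ext s
        exact Subtype.ext (img_res i k.unop.le s) }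
    fun W r s => Subtype.ext (img_smul i W.unop r s)

omit [Coh.IsQCoh M] in
theorem toSub_comp {N : StalkSub M} (hN : ∀ z ∈ U, N z = base i z) :
    toSub i hN ≫ (Scheme.Modules.restrictFunctor U.ι).map (subι N) = i :=
  Scheme.Modules.hom_ext _ _ fun W => AddCommGrpCat.hom_ext (AddMonoidHom.ext fun s => rfl)

omit [Coh.IsQCoh M] in
theorem isIso_toSub [Mono i] {N : StalkSub M} (hN : ∀ z ∈ U, N z = base i z) : IsIso (toSub i hN) := by
  haveI : Mono (toSub i hN) := mono_of_mono_fac (toSub_comp i hN)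
  haveI : Epi (toSub i hN) := by
    refine (PullbackMod.epi_iff_stalk _).2 fun p => fun g => ?_
    obtain ⟨W, hpW, t, rfl⟩ := TopCat.Presheaf.exists_germ_eq ((subMod N).restrict U.ι).presheaf g
    obtain ⟨z, hzU⟩ := p
    have ht := mem_sec_of_app N (U.ι ''ᵁ W) t z (mem_image_ι hzU hpW)
    rw [hN z hzU, base_eq i hzU] at ht
    obtain ⟨W', hz', s, hs⟩ := ht
    obtain ⟨V, hzV, j, j', hres⟩ := TopCat.Presheaf.germ_eq M.presheaf z _ _ _ _ hs
    let W₂ : (U : Scheme.{u}).Opens := (W ⊓ W') ⊓ U.ι ⁻¹ᵁ V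
    have h₂ : (⟨z, hzU⟩ : U) ∈ W₂ := ⟨⟨hpW, hz'⟩, hzV⟩
    have hle : U.ι ''ᵁ W₂ ≤ V := (U.ι.image_mono inf_le_right).trans (U.ι.image_preimage_le V)
    refine ⟨G.presheaf.germ W₂ _ h₂ (G.presheaf.map (homOfLE (inf_le_left.trans inf_le_right)).op s), ?_⟩
    rw [PullbackMod.stalkLin_germ]
    refine (congrArg _ (?_ : _ = ((subMod N).restrict U.ι).presheaf.map
      (homOfLE (inf_le_left.trans inf_le_left : W₂ ≤ W)).op t)).trans
        (((subMod N).restrict U.ι).presheaf.germ_res_apply _ _ h₂ t)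
    refine Subtype.ext ?_
    have h3 := congrArg (M.presheaf.map (homOfLE hle).op) hres
    rw [show j = homOfLE j.le from Subsingleton.elim _ _,
      show j' = homOfLE j'.le from Subsingleton.elim _ _, restr_trans, restr_trans] at h3
    exact (img_res i _ s).trans h3.symm
  exact isIso_of_mono_of_epi _

end Base

end Groth.Agent.SubLib
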