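import Groth.Agent.QCohLib.FiniteType
import Groth.Agent.FlatLocus.ModInjFlat

/-!
# Subsheaves of modules given by submodules of the stalks
-/

set_option autoImplicit false
set_option backward.isDefEq.respectTransparency false
set_option backward.defeqAttrib.useBackward true
set_option linter.style.haveILetI false

universe u

open CategoryTheory CategoryTheory.Limits AlgebraicGeometry TopologicalSpace Opposite
open Groth.Agent.CohBase Groth.Agent.QCohLib

noncomputable section

namespace Groth.Agent.SubLib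

variable {X : Scheme.{u}} (M : X.Modules)

/-- A submodule of every stalk. -/
abbrev StalkSub := ∀ x : X, Submodule (X.presheaf.stalk x) (M.presheaf.stalk x)

variable {M} (N : StalkSub M)

theorem germ_smul' (U : X.Opens) (x : X) (hx : x ∈ U) (a : Γ(X, U)) (s : Γ(M, U)) :
    M.presheaf.germ U x hx (a • s) = X.presheaf.germ U x hx a • M.presheaf.germ U x hx s :=
  PresheafOfModules.germ_smul (R := X.presheaf) M.val x U hx a s

/-- Sections with all germs in `N`. -/
def sec (U : X.Opens) : Submodule Γ(X, U) Γ(M, U) where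
  carrier := {s | ∀ (x : X) (hx : x ∈ U), M.presheaf.germ U x hx s ∈ N x}
  add_mem' {a b} ha hb x hx := by
    rw [map_add]
    exact (N x).add_mem (ha x hx) (hb x hx)
  zero_mem' x hx := by
    rw [map_zero]
    exact (N x).zero_mem
  smul_mem' a s hs x hx := by
    rw [germ_smul']
    exact (N x).smul_mem _ (hs x hx)

theorem res_mem_sec {U V : X.Opens} (i : V ⟶ U) {s : Γ(M, U)} (hs : s ∈ sec N U) :
    M.presheaf.map i.op s ∈ sec N V := fun x hx => by
  rw [M.presheaf.germ_res_apply]
  exact hs x _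

/-- The presheaf of abelian groups. -/
def subAb : TopCat.Presheaf Ab X where
  obj U := AddCommGrpCat.of (sec N U.unop)
  map {U V} i := AddCommGrpCat.ofHom
    { toFun := fun s => ⟨M.presheaf.map i s.1, res_mem_sec N i.unop s.2⟩
      map_zero' := Subtype.ext (map_zero (M.presheaf.map i).hom)
      map_add' := fun a b => Subtype.ext (map_add (M.presheaf.map i).hom a.1 b.1) }
  map_id U := AddCommGrpCat.hom_ext (AddMonoidHom.ext fun s =>
    Subtype.ext (ConcreteCategory.congr_hom (M.presheaf.map_id U) (Subtype.val (p := fun s => s ∈ sec N U.unop) s)))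
  map_comp {U V W} i j := AddCommGrpCat.hom_ext (AddMonoidHom.ext fun s =>
    Subtype.ext (ConcreteCategory.congr_hom (M.presheaf.map_comp i j) (Subtype.val (p := fun s => s ∈ sec N U.unop) s)))

instance (U : X.Opensᵒᵖ) : Module (X.ringCatSheaf.obj.obj U) ((subAb N).obj U) :=
  inferInstanceAs (Module Γ(X, U.unop) (sec N U.unop))

/-- The presheaf of modules. -/
def subPre : X.PresheafOfModules :=
  PresheafOfModules.ofPresheaf (subAb N) fun _ _ i r s => Subtype.ext (M.val.map_smul i r s.1)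

theorem subAb_isSheaf : (subAb N).IsSheaf := by
  rw [TopCat.Presheaf.isSheaf_iff_isSheafUniqueGluing]
  intro ι U sf hsf
  have hM : TopCat.Presheaf.IsSheaf M.presheaf := M.isSheaf
  obtain ⟨g, hg, huniq⟩ := (TopCat.Presheaf.isSheaf_iff_isSheafUniqueGluing M.presheaf).1 hM U
    (fun i => (sf i).1) fun i j => congrArg Subtype.val (hsf i j)
  refine ⟨⟨g, fun x hx => ?_⟩, fun i => Subtype.ext (hg i), fun t ht =>
    Subtype.ext (huniq t.1 fun i => congrArg Subtype.val (ht i))⟩
  obtain ⟨i, hi⟩ := Opens.mem_iSup.mp hx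
  have h : M.presheaf.germ (U i) x hi (M.presheaf.map (Opens.leSupr U i).op g) ∈ N x := by
    rw [hg i]
    exact (sf i).2 x hi
  rwa [M.presheaf.germ_res_apply] at h

/-- The subsheaf. -/
def subMod : X.Modules where
  val := subPre N
  isSheaf := subAb_isSheaf N

/-- The inclusion. -/
def subι : subMod N ⟶ M where
  val := PresheafOfModules.homMk
    { app := fun U => AddCommGrpCat.ofHom
        { toFun := fun s => Subtype.val (p := fun s => s ∈ sec N U.unop) s
          map_zero' := rfl
          map_add' := fun _ _ => rfl }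
      naturality := fun U V i => by
        ext s
        rfl }
    fun U r s => rfl

theorem subι_app_injective (U : X.Opens) : Function.Injective ((subι N).app U) :=
  fun _ _ h => Subtype.ext h

theorem mem_sec_of_app (U : X.Opens) (t : Γ(subMod N, U)) : (subι N).app U t ∈ sec N U :=
  Subtype.prop (p := fun s => s ∈ sec N U) t

instance mono_subι : Mono (subι N) := by
  refine ⟨fun g h e => Scheme.Modules.hom_ext _ _ fun U => AddCommGrpCat.hom_ext (AddMonoidHom.ext fun s => ?_)⟩
  exact subι_app_injective N U (congrArg (fun φ => (φ : _ ⟶ M).app U s) e)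

section Local

variable {W : X.Opens}

theorem germ_span_le {P : Submodule Γ(X, W) Γ(M, W)} {x : X} (hx : x ∈ W)
    {Q : Submodule (X.presheaf.stalk x) (M.presheaf.stalk x)} {S : Set Γ(M, W)}
    (hS : ∀ t ∈ S, M.presheaf.germ W x hx t ∈ Q) (hP : P ≤ Submodule.span Γ(X, W) S)
    {t : Γ(M, W)} (ht : t ∈ P) : M.presheaf.germ W x hx t ∈ Q := by
  refine Submodule.span_induction (p := fun t _ => M.presheaf.germ W x hx t ∈ Q) hS ?_ ?_ ?_ (hP ht)
  · rw [map_zero]; exact Q.zero_mem
  · intro a b _ _ ha hb; rw [map_add]; exact Q.add_mem ha hb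
  · intro a s _ hs; rw [germ_smul']; exact Q.smul_mem _ hs

variable (hW : IsAffineOpen W) [Coh.IsQCoh M]

include hW in
/-- A germ lies in the span of the germs of `S` iff a multiple by a unit of the section lies in the span. -/
theorem germ_mem_span_iff (S : Set Γ(M, W)) (x : X) (hx : x ∈ W) (s : Γ(M, W)) :
    M.presheaf.germ W x hx s ∈ Submodule.span (X.presheaf.stalk x) (M.presheaf.germ W x hx '' S) ↔
      ∃ a : Γ(X, W), x ∈ X.basicOpen a ∧ a • s ∈ Submodule.span Γ(X, W) S := by
  have hu : ∀ a : Γ(X, W), x ∈ X.basicOpen a → IsUnit (X.presheaf.germ W x hx a) :=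
    fun a h => (X.mem_basicOpen a x hx).mp h
  constructor
  · intro h
    letI := Module.compHom (M.presheaf.stalk x) (X.presheaf.germ W x hx).hom
    letI : Algebra Γ(X, W) (X.presheaf.stalk x) :=
      TopCat.Presheaf.algebra_section_stalk X.presheaf ⟨x, hx⟩
    haveI := hW.isLocalization_stalk ⟨x, hx⟩
    haveI := FlatLocus.isLocalizedModule_germL M hW x hx
    let p := (hW.primeIdealOf ⟨x, hx⟩).asIdeal.primeCompl
    have hmem : ∀ a : Γ(X, W), a ∈ p ↔ x ∈ X.basicOpen a := fun a => by
      have h := SetLike.ext_iff.mp (hW.fromSpec_preimage_basicOpen a) (hW.primeIdealOf ⟨x, hx⟩)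
      rw [Scheme.Hom.mem_preimage, hW.fromSpec_primeIdealOf] at h
      exact h.symm
    have key : ∀ z ∈ Submodule.span (X.presheaf.stalk x) (M.presheaf.germ W x hx '' S),
        ∃ a ∈ p, ∃ t ∈ Submodule.span Γ(X, W) S,
          X.presheaf.germ W x hx a • z = M.presheaf.germ W x hx t := by
      intro z hz
      refine Submodule.span_induction ?_ ?_ ?_ ?_ hz
      · rintro _ ⟨t, ht, rfl⟩
        exact ⟨1, p.one_mem, t, Submodule.subset_span ht, by rw [map_one, one_smul]⟩
      · exact ⟨1, p.one_mem, 0, Submodule.zero_mem _, by rw [map_zero, smul_zero]⟩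
      · rintro z₁ z₂ _ _ ⟨a, ha, t, ht, e⟩ ⟨b, hb, u, hu', e'⟩
        refine ⟨a * b, p.mul_mem ha hb, b • t + a • u,
          Submodule.add_mem _ (Submodule.smul_mem _ _ ht) (Submodule.smul_mem _ _ hu'), ?_⟩
        rw [map_add, germ_smul', germ_smul', ← e, ← e', map_mul, smul_add, smul_smul, smul_smul,
          mul_comm (X.presheaf.germ W x hx b)]
      · rintro c z _ ⟨a, ha, t, ht, e⟩
        obtain ⟨⟨r, b⟩, hc⟩ := IsLocalization.surj p c
        have hc' : c * X.presheaf.germ W x hx b = X.presheaf.germ W x hx r := hc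
        refine ⟨b.1 * a, p.mul_mem b.2 ha, r • t, Submodule.smul_mem _ _ ht, ?_⟩
        rw [germ_smul', ← e, map_mul, smul_smul, smul_smul, ← hc']
        congr 1
        ring
    obtain ⟨a, ha, t, ht, e⟩ := key _ h
    rw [← germ_smul'] at e
    obtain ⟨b, hb⟩ := IsLocalizedModule.exists_of_eq (S := p) (f := FlatLocus.germL M W x hx) e
    refine ⟨b.1 * a, (hmem _).1 (p.mul_mem b.2 ha), ?_⟩
    rw [mul_smul]
    exact (show b.1 • a • s = b.1 • t from hb) ▸ Submodule.smul_mem _ _ ht
  · rintro ⟨a, ha, hs⟩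
    have := germ_span_le hx (fun t ht => Submodule.subset_span (Set.mem_image_of_mem _ ht)) le_rfl hs
    rw [germ_smul'] at this
    obtain ⟨v, hv⟩ := hu a ha
    rw [← hv] at this
    exact (Submodule.smul_mem_iff_of_isUnit _ v.isUnit).1 this

include hW in
/-- Membership of a section is detected prime by prime. -/
theorem pow_smul_mem (S : Set Γ(M, W)) (g : Γ(X, W)) (s : Γ(M, W))
    (h : ∀ x (hx : x ∈ W), x ∈ X.basicOpen g → M.presheaf.germ W x hx s ∈
      Submodule.span (X.presheaf.stalk x) (M.presheaf.germ W x hx '' S)) :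
    ∃ n : ℕ, g ^ n • s ∈ Submodule.span Γ(X, W) S := by
  let I : Ideal Γ(X, W) := (Submodule.span Γ(X, W) S).colon {s}
  have hI : ∀ a : Γ(X, W), a ∈ I ↔ a • s ∈ Submodule.span Γ(X, W) S := fun a =>
    Submodule.mem_colon_singleton
  suffices hg : g ∈ I.radical by
    obtain ⟨n, hn⟩ := hg
    exact ⟨n, (hI _).1 hn⟩
  rw [Ideal.radical_eq_sInf, Submodule.mem_sInf]
  rintro q ⟨hIq, hq⟩
  by_contra hgq
  have hxW : hW.fromSpec ⟨q, hq⟩ ∈ W := by
    rw [← SetLike.mem_coe, ← hW.range_fromSpec]
    exact Set.mem_range_self _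
  have hmem : ∀ a : Γ(X, W), hW.fromSpec ⟨q, hq⟩ ∈ X.basicOpen a ↔ a ∉ q := fun a => by
    have h := SetLike.ext_iff.mp (hW.fromSpec_preimage_basicOpen a) ⟨q, hq⟩
    rw [Scheme.Hom.mem_preimage] at h
    exact h
  obtain ⟨a, ha, has⟩ := (germ_mem_span_iff hW S _ hxW s).1 (h _ hxW ((hmem g).2 hgq))
  exact (hmem a).1 ha (hIq ((hI a).2 has))

end Local

/-- `N` is generated on `W` by finitely many sections. -/
def GenOn (W : X.Opens) : Prop :=
  ∃ S : Finset Γ(M, W), ∀ (y : X) (hy : y ∈ W),
    N y = Submodule.span (X.presheaf.stalk y) (M.presheaf.germ W y hy '' (S : Set Γ(M, W)))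

theorem GenOn.mono {N : StalkSub M} {W W' : X.Opens} (h : GenOn N W) (hle : W' ≤ W) : GenOn N W' := by
  classical
  obtain ⟨S, hS⟩ := h
  refine ⟨S.image fun s => M.presheaf.map (homOfLE hle).op s, fun y hy => ?_⟩
  rw [hS y (hle hy), Finset.coe_image, Set.image_image]
  congr 1
  refine Set.image_congr fun s _ => ?_
  exact (M.presheaf.germ_res_apply (homOfLE hle) y hy s).symm

theorem GenOn.congr {N N' : StalkSub M} {W : X.Opens} (h : GenOn N W)
    (e : ∀ y ∈ W, N' y = N y) : GenOn N' W := by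
  obtain ⟨S, hS⟩ := h
  exact ⟨S, fun y hy => (e y hy).trans (hS y hy)⟩

variable [Coh.IsQCoh M]

theorem sec_eq_span {W : X.Opens} (hW : IsAffineOpen W) {S : Finset Γ(M, W)}
    (hS : ∀ (y : X) (hy : y ∈ W),
      N y = Submodule.span (X.presheaf.stalk y) (M.presheaf.germ W y hy '' (S : Set Γ(M, W)))) :
    sec N W = Submodule.span Γ(X, W) (S : Set Γ(M, W)) := by
  refine le_antisymm (fun s hs => ?_) (Submodule.span_le.2 fun s hs y hy => ?_)
  · obtain ⟨n, hn⟩ := pow_smul_mem hW (S : Set Γ(M, W)) 1 s fun x hx _ => hS x hx ▸ hs x hx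
    rwa [one_pow, one_smul] at hn
  · rw [hS y hy]
    exact Submodule.subset_span (Set.mem_image_of_mem _ hs)

theorem locAt_subMod {W : X.Opens} (hW : IsAffineOpen W) (h : GenOn N W) : LocAt (subMod N) W where
  extend f t := by
    obtain ⟨S, hS⟩ := h
    obtain ⟨n, s, hs⟩ := (locAt M hW).extend f t.1
    obtain ⟨m, hm⟩ := pow_smul_mem hW (S : Set Γ(M, W)) f s fun x hx hxf => by
      rw [← hS x hx, ← M.presheaf.germ_res_apply (homOfLE (X.basicOpen_le f)) x hxf s, hs, sc_apply]
      rw [germ_smul']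
      exact (N x).smul_mem _ (t.2 x hxf)
    rw [← sec_eq_span N hW hS] at hm
    refine ⟨m + n, ⟨_, hm⟩, Subtype.ext ?_⟩
    show M.presheaf.map (homOfLE (X.basicOpen_le f)).op (f ^ m • s) = _
    rw [sc_apply]
    show _ = X.presheaf.map (homOfLE (X.basicOpen_le f)).op (f ^ (m + n)) • t.1
    rw [pow_add, map_mul, mul_smul]
    refine (M.val.map_smul (homOfLE (X.basicOpen_le f)).op (f ^ m) s).trans ?_
    exact congrArg (X.presheaf.map (homOfLE (X.basicOpen_le f)).op (f ^ m) • ·) (hs.trans (sc_apply _ _ _))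
  kill f s hs := by
    obtain ⟨n, hn⟩ := (locAt M hW).kill f s.1 (congrArg Subtype.val hs)
    refine ⟨n, Subtype.ext ?_⟩
    exact hn

theorem finite_sections_subMod {W : X.Opens} (hW : IsAffineOpen W) (h : GenOn N W) :
    Module.Finite Γ(X, W) Γ(subMod N, W) := by
  obtain ⟨S, hS⟩ := h
  have : Module.Finite Γ(X, W) (sec N W) := Module.Finite.iff_fg.2 (sec_eq_span N hW hS ▸ ⟨S, rfl⟩)
  exact this

theorem isQCoh_subMod (h : ∀ x : X, ∃ W : X.Opens, IsAffineOpen W ∧ x ∈ W ∧ GenOn N W) :
    Coh.IsQCoh (subMod N) := by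
  choose W hW hx hG using h
  exact isQCoh_of_locAt _ W hW (eq_top_iff.mpr fun x _ => Opens.mem_iSup.mpr ⟨x, hx x⟩)
    fun x => locAt_subMod N (hW x) (hG x)

theorem isFT_subMod (h : ∀ x : X, ∃ W : X.Opens, IsAffineOpen W ∧ x ∈ W ∧ GenOn N W) :
    CohB1.IsFT (subMod N) := by
  haveI := isQCoh_subMod N h
  choose W hW hx hG using h
  exact isFiniteType_of_finite _ W hW (eq_top_iff.mpr fun x _ => Opens.mem_iSup.mpr ⟨x, hx x⟩)
    fun x => finite_sections_subMod N (hW x) (hG x)

end Groth.Agent.SubLib
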